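import Groth.Agent.H15Site.QcColim
import Groth.Agent.H15Site.PBC.Germs
import Mathlib.Topology.LocallyConstant.Basic
import Mathlib.RingTheory.Int.Basic

/-!
# Subsheaves of the constant sheaf of integers
-/

set_option autoImplicit false
set_option linter.style.haveILetI false
set_option linter.unusedSectionVars false
set_option backward.isDefEq.respectTransparency false
set_option backward.isDefEq.respectTransparency.types false

universe u

open CategoryTheory CategoryTheory.Limits Opposite TopologicalSpace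

namespace Groth.Agent.H15Site.ExtZeroVanish

open Groth.Agent.H10Coh

attribute [local instance 10000] hasSheafifyAb hasWeakSheafifyAb hasExtAb enoughInjAb

variable {X : TopCat.{u}}

/-- Points of an open. -/
abbrev Pt (W : Opens X) : Type u := {x : X // x ∈ W}

/-- Locally constant integer functions with prescribed divisibility. -/
def secs (N : X → ℤ) (W : Opens X) : AddSubgroup (Pt W → ℤ) where
  carrier := {f | IsLocallyConstant f ∧ ∀ x, N x.1 ∣ f x}
  zero_mem' := ⟨IsLocallyConstant.const 0, fun _ => dvd_zero _⟩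
  add_mem' := fun ha hb => ⟨ha.1.comp₂ hb.1 (· + ·), fun x => dvd_add (ha.2 x) (hb.2 x)⟩
  neg_mem' := fun ha => ⟨ha.1.comp Neg.neg, fun x => (ha.2 x).neg_right⟩

/-- The presheaf of these functions. -/
noncomputable def pre (N : X → ℤ) : (Opens X)ᵒᵖ ⥤ AddCommGrpCat.{u} where
  obj W := AddCommGrpCat.of (ULift.{u} (secs N W.unop))
  map {W V} k := AddCommGrpCat.ofHom
    { toFun := fun f => ⟨⟨fun x => f.down.1 ⟨x.1, k.unop.le x.2⟩,
        f.down.2.1.comp_continuous (continuous_subtype_val.subtype_mk _),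
        fun x => f.down.2.2 ⟨x.1, k.unop.le x.2⟩⟩⟩
      map_zero' := rfl
      map_add' := fun _ _ => rfl }
  map_id _ := rfl
  map_comp _ _ := rfl

/-- The value of a section at a point. -/
noncomputable def vl {N : X → ℤ} {W : Opens X} (f : (pre N).obj (op W)) (x : X) (hx : x ∈ W) : ℤ :=
  (ULift.down.{u} f).1 ⟨x, hx⟩

theorem vl_ext {N : X → ℤ} {W : Opens X} {f g : (pre N).obj (op W)}
    (h : ∀ x hx, vl f x hx = vl g x hx) : f = g :=
  ULift.ext _ _ (Subtype.ext (funext fun x => h x.1 x.2))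

/-- Construct a section from its values. -/
noncomputable def mkSec {N : X → ℤ} {W : Opens X} (f : ∀ x, x ∈ W → ℤ)
    (hf : IsLocallyConstant fun x : Pt W => f x.1 x.2) (hN : ∀ x hx, N x ∣ f x hx) : (pre N).obj (op W) :=
  ULift.up.{u} ⟨fun x => f x.1 x.2, hf, fun x => hN x.1 x.2⟩

theorem vl_mkSec {N : X → ℤ} {W : Opens X} (f : ∀ x, x ∈ W → ℤ)
    (hf : IsLocallyConstant fun x : Pt W => f x.1 x.2) (hN : ∀ x hx, N x ∣ f x hx) (x : X) (hx : x ∈ W) :
    vl (mkSec (N := N) f hf hN) x hx = f x hx := rfl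

theorem isLocallyConstant_vl {N : X → ℤ} {W : Opens X} (f : (pre N).obj (op W)) :
    IsLocallyConstant fun x : Pt W => vl f x.1 x.2 := (ULift.down.{u} f).2.1

theorem dvd_vl {N : X → ℤ} {W : Opens X} (f : (pre N).obj (op W)) (x : X) (hx : x ∈ W) :
    N x ∣ vl f x hx := (ULift.down.{u} f).2.2 ⟨x, hx⟩

theorem vl_map {N : X → ℤ} {W V : Opens X} (h : V ≤ W) (f : (pre N).obj (op W)) (x : X) (hx : x ∈ V) :
    vl ((pre N).map (homOfLE h).op f) x hx = vl f x (h hx) := rfl

theorem vl_zero {N : X → ℤ} {W : Opens X} (x : X) (hx : x ∈ W) : vl (0 : (pre N).obj (op W)) x hx = 0 := rfl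

theorem vl_add {N : X → ℤ} {W : Opens X} (f g : (pre N).obj (op W)) (x : X) (hx : x ∈ W) :
    vl (f + g) x hx = vl f x hx + vl g x hx := rfl

theorem exists_nhd_const {N : X → ℤ} {W : Opens X} (f : (pre N).obj (op W)) (x : X) (hx : x ∈ W) :
    ∃ (V : Opens X) (hV : V ≤ W), x ∈ V ∧ ∀ y (hy : y ∈ V), vl f y (hV hy) = vl f x hx := by
  obtain ⟨S, hS, hxS, hconst⟩ := (IsLocallyConstant.iff_exists_open _).1 (isLocallyConstant_vl f) ⟨x, hx⟩
  obtain ⟨O, hO, rfl⟩ := isOpen_induced_iff.1 hS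
  exact ⟨⟨O, hO⟩ ⊓ W, inf_le_right, ⟨hxS, hx⟩, fun y hy => hconst ⟨y, hy.2⟩ hy.1⟩

theorem isLocallyConstant_of_nhd {W : Opens X} {f : ∀ x, x ∈ W → ℤ}
    (h : ∀ x hx, ∃ (V : Opens X) (hV : V ≤ W), x ∈ V ∧ ∀ y (hy : y ∈ V), f y (hV hy) = f x hx) :
    IsLocallyConstant fun x : Pt W => f x.1 x.2 := by
  refine (IsLocallyConstant.iff_exists_open _).2 fun x => ?_
  obtain ⟨V, hV, hxV, e⟩ := h x.1 x.2
  exact ⟨_, V.isOpen.preimage continuous_subtype_val, hxV, fun y hy => e y.1 hy⟩

theorem isSheaf_pre (N : X → ℤ) : TopCat.Presheaf.IsSheaf (pre N) := by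
  rw [TopCat.Presheaf.isSheaf_iff_isSheafUniqueGluing]
  intro ι U sf hsf
  have hex : ∀ x : X, x ∈ iSup U → ∃ i, x ∈ U i := fun x hx => Opens.mem_iSup.1 hx
  choose i hi using hex
  have hind : ∀ (x : X) (hx : x ∈ iSup U) (j : ι) (hj : x ∈ U j),
      vl (sf (i x hx)) x (hi x hx) = vl (sf j) x hj := fun x hx j hj =>
    congrArg (fun f => vl f x (show x ∈ U (i x hx) ⊓ U j from ⟨hi x hx, hj⟩)) (hsf (i x hx) j)
  refine ⟨mkSec (fun x hx => vl (sf (i x hx)) x (hi x hx)) (isLocallyConstant_of_nhd (f := fun x hx => vl (sf (i x hx)) x (hi x hx)) fun x hx => ?_)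
    (fun x hx => dvd_vl _ _ _), fun j => ?_, fun t ht => ?_⟩
  · obtain ⟨V, hV, hxV, e⟩ := exists_nhd_const (sf (i x hx)) x (hi x hx)
    exact ⟨V, hV.trans (le_iSup U _), hxV, fun y hy =>
      (hind y (le_iSup U _ (hV hy)) _ (hV hy)).trans (e y hy)⟩
  · exact vl_ext fun x hx => hind x (le_iSup U j hx) j hx
  · exact vl_ext fun x hx => congrArg (fun f => vl f x (hi x hx)) (ht (i x hx))

/-- The sheaf of locally constant integer functions with prescribed divisibility. -/
noncomputable def L (N : X → ℤ) : CohTop.Ab X := ⟨pre N, isSheaf_pre N⟩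

/-- A morphism between these sheaves given by a function on values. -/
noncomputable def homOfMul (N M : X → ℤ) (c : ℤ) (h : ∀ x, M x ∣ c * N x) : L N ⟶ L M where
  hom :=
    { app := fun W => AddCommGrpCat.ofHom
        { toFun := fun f => mkSec (fun x hx => c * vl f x hx)
            ((isLocallyConstant_vl f).comp (c * ·))
            fun x hx => (h x).trans (mul_dvd_mul_left c (dvd_vl f x hx))
          map_zero' := vl_ext fun _ _ => mul_zero c
          map_add' := fun _ _ => vl_ext fun _ _ => mul_add c _ _ }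
      naturality := fun _ _ _ => rfl }

theorem vl_homOfMul {N M : X → ℤ} {c : ℤ} (h : ∀ x, M x ∣ c * N x) {W : Opens X} (f : (pre N).obj (op W))
    (x : X) (hx : x ∈ W) : vl ((homOfMul N M c h).hom.app (op W) f) x hx = c * vl f x hx := rfl

/-- The inclusion. -/
noncomputable abbrev inc {N M : X → ℤ} (h : ∀ x, M x ∣ N x) : L N ⟶ L M :=
  homOfMul N M 1 fun x => (one_mul (N x)).symm ▸ h x

theorem vl_inc {N M : X → ℤ} (h : ∀ x, M x ∣ N x) {W : Opens X} (f : (pre N).obj (op W))
    (x : X) (hx : x ∈ W) : vl ((inc h).hom.app (op W) f) x hx = vl f x hx := one_mul _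

theorem mono_of_app {F G : CohTop.Ab X} (φ : F ⟶ G)
    (h : ∀ W : Opens X, Function.Injective (φ.hom.app (op W))) : Mono φ := by
  have : ∀ U, Mono (φ.hom.app U) := fun U => (AddCommGrpCat.mono_iff_injective _).2 (h U.unop)
  have : Mono φ.hom := NatTrans.mono_of_mono_app _
  exact (sheafToPresheaf _ _).mono_of_mono_map this

theorem app_injective {F G : CohTop.Ab X} (φ : F ⟶ G) [Mono φ] (W : Opens X) :
    Function.Injective (φ.hom.app (op W)) := by
  intro a b hab
  apply (sect W F).symm.injective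
  rw [← cancel_mono φ]
  apply (sect W G).injective
  rw [sect_comp, sect_comp, AddEquiv.apply_symm_apply, AddEquiv.apply_symm_apply, hab]

theorem mono_homOfMul {N M : X → ℤ} {c : ℤ} (hc : c ≠ 0) (h : ∀ x, M x ∣ c * N x) : Mono (homOfMul N M c h) :=
  mono_of_app _ fun _ f g e => vl_ext fun x hx =>
    mul_left_cancel₀ hc (congrArg (fun t => vl t x hx) e)

instance mono_inc {N M : X → ℤ} (h : ∀ x, M x ∣ N x) : Mono (inc h) := mono_homOfMul one_ne_zero _

theorem epi_of_local {F G : CohTop.Ab X} (φ : F ⟶ G)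
    (h : ∀ (W : Opens X) (t : G.obj.obj (op W)) (x : X), x ∈ W →
      ∃ (V : Opens X) (hV : V ≤ W) (s : F.obj.obj (op V)),
        φ.hom.app (op V) s = G.obj.map (homOfLE hV).op t ∧ x ∈ V) : Epi φ := by
  refine (TopCat.Sheaf.isLocallySurjective_iff_epi φ).mp
    ((TopCat.Presheaf.isLocallySurjective_iff _).2 fun W t x hx => ?_)
  obtain ⟨V, hV, s, hs, hxV⟩ := h W t x hx
  exact ⟨V, hV, ⟨s, hs⟩, hxV⟩

theorem exists_local_preimage {F G : CohTop.Ab X} (φ : F ⟶ G) [Epi φ] {W : Opens X}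
    (t : G.obj.obj (op W)) {x : X} (hx : x ∈ W) :
    ∃ (V : Opens X) (hV : V ≤ W) (s : F.obj.obj (op V)),
      φ.hom.app (op V) s = G.obj.map (homOfLE hV).op t ∧ x ∈ V := by
  have := (TopCat.Sheaf.isLocallySurjective_iff_epi φ).mpr ‹Epi φ›
  obtain ⟨V, hV, ⟨s, hs⟩, hxV⟩ := (TopCat.Presheaf.isLocallySurjective_iff φ.hom).mp this W t x hx
  exact ⟨V, hV, s, hs, hxV⟩

section Ind

open Classical in
/-- The divisibility of the extension by zero of `ℤ` from an open. -/
noncomputable def ind (U : Opens X) (n : ℤ) : X → ℤ := fun x => if x ∈ U then n else 0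

theorem ind_pos {U : Opens X} {n : ℤ} {x : X} (h : x ∈ U) : ind U n x = n := if_pos h
theorem ind_neg {U : Opens X} {n : ℤ} {x : X} (h : x ∉ U) : ind U n x = 0 := if_neg h

theorem vl_eq_zero_of_ind {U : Opens X} {n : ℤ} {W : Opens X} (f : (pre (ind U n)).obj (op W))
    {x : X} (hx : x ∈ W) (h : x ∉ U) : vl f x hx = 0 :=
  zero_dvd_iff.1 (ind_neg (n := n) h ▸ dvd_vl f x hx)

/-- The canonical section. -/
noncomputable def oneSec (U : Opens X) : (L (ind U 1)).obj.obj (op U) :=
  mkSec (fun _ _ => 1) (IsLocallyConstant.const 1) (fun x hx => (ind_pos (n := 1) hx).dvd)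

theorem map_oneSec_eq {U W : Opens X} (f : (L (ind U 1)).obj.obj (op W)) (x : X) (hx : x ∈ W) :
    ∃ (V : Opens X) (hV : V ≤ W) (hVx : x ∈ V), (L (ind U 1)).obj.map (homOfLE hV).op f = 0 ∧ vl f x hx = 0 ∨
      ∃ hVU : V ≤ U, (L (ind U 1)).obj.map (homOfLE hV).op f =
        vl f x hx • (L (ind U 1)).obj.map (homOfLE hVU).op (oneSec U) := by
  obtain ⟨V, hV, hxV, e⟩ := exists_nhd_const f x hx
  by_cases h0 : vl f x hx = 0
  · exact ⟨V, hV, hxV, Or.inl ⟨vl_ext fun y hy => (e y hy).trans (h0.trans (vl_zero y hy).symm), h0⟩⟩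
  · have hVU : V ≤ U := fun y hy => by_contra fun hn => h0 ((e y hy).symm.trans (vl_eq_zero_of_ind f _ hn))
    refine ⟨V, hV, hxV, Or.inr ⟨hVU, vl_ext fun y hy => ?_⟩⟩
    refine (e y hy).trans ?_
    let ev : (pre (ind U 1)).obj (op V) →+ ℤ :=
      { toFun := fun g => vl g y hy, map_zero' := rfl, map_add' := fun _ _ => rfl }
    exact ((map_zsmul ev _ _).trans (mul_one _)).symm

/-- Maps out of the extension by zero are determined by the canonical section. -/
theorem ind_hom_ext {U : Opens X} {G : CohTop.Ab X} {α β : L (ind U 1) ⟶ G}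
    (h : α.hom.app (op U) (oneSec U) = β.hom.app (op U) (oneSec U)) : α = β := by
  refine CategoryTheory.Sheaf.hom_ext (NatTrans.ext (funext fun W => ?_))
  ext f
  refine TopCat.Presheaf.section_ext (G : TopCat.Sheaf AddCommGrpCat.{u} X) W.unop _ _ fun x hx => ?_
  obtain ⟨V, hV, hxV, hcase⟩ := map_oneSec_eq f x hx
  rw [← TopCat.Presheaf.germ_res_apply G.obj (homOfLE hV) x hxV,
    ← TopCat.Presheaf.germ_res_apply G.obj (homOfLE hV) x hxV]
  refine congrArg _ ?_
  refine ((ConcreteCategory.congr_hom (α.hom.naturality (homOfLE hV).op) f).symm.trans ?_).trans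
    (ConcreteCategory.congr_hom (β.hom.naturality (homOfLE hV).op) f)
  show α.hom.app (op V) ((L (ind U 1)).obj.map (homOfLE hV).op f) =
    β.hom.app (op V) ((L (ind U 1)).obj.map (homOfLE hV).op f)
  rcases hcase with ⟨h0, -⟩ | ⟨hVU, h1⟩
  · rw [h0, map_zero, map_zero]
  · rw [h1, map_zsmul, map_zsmul]
    refine congrArg _ ?_
    refine (ConcreteCategory.congr_hom (α.hom.naturality (homOfLE hVU).op) (oneSec U)).trans
      (((congrArg (G.obj.map (homOfLE hVU).op) h)).trans ?_)
    exact (ConcreteCategory.congr_hom (β.hom.naturality (homOfLE hVU).op) (oneSec U)).symm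

/-- Every section gives a map out of the extension by zero. -/
theorem exists_ind_hom {U : Opens X} {G : CohTop.Ab X} (t : G.obj.obj (op U)) :
    ∃ α : L (ind U 1) ⟶ G, α.hom.app (op U) (oneSec U) = t := by
  classical
  let val : ∀ {W : Opens X}, (pre (ind U 1)).obj (op W) → ∀ (x : X), x ∈ W → CohTop.stalk G x :=
    fun f x hx => if h : x ∈ U then vl f x hx • PBC.gm G x h t else 0
  have hloc : ∀ (W : Opens X) (f : (pre (ind U 1)).obj (op W)) (x : X) (hx : x ∈ W),
      ∃ (V : Opens X) (hV : V ≤ W), x ∈ V ∧ ∃ g : G.obj.obj (op V),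
        ∀ y (hy : y ∈ V), PBC.gm G y hy g = val f y (hV hy) := by
    intro W f x hx
    obtain ⟨V, hV, hxV, e⟩ := exists_nhd_const f x hx
    by_cases h0 : vl f x hx = 0
    · refine ⟨V, hV, hxV, 0, fun y hy => ?_⟩
      show _ = dite (y ∈ U) _ _
      rw [e y hy, h0]
      split_ifs
      · exact (map_zero _).trans (zero_smul ℤ _).symm
      · exact map_zero _
    · have hVU : V ≤ U := fun y hy => by_contra fun hn => h0 ((e y hy).symm.trans (vl_eq_zero_of_ind f _ hn))
      refine ⟨V, hV, hxV, vl f x hx • G.obj.map (homOfLE hVU).op t, fun y hy => ?_⟩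
      show _ = dite (y ∈ U) _ _
      rw [dif_pos (hVU hy), e y hy]
      exact (map_zsmul _ _ _).trans (congrArg _ (PBC.gm_res G hVU y hy t))
  have hex : ∀ (W : Opens X) (f : (pre (ind U 1)).obj (op W)),
      ∃! s : G.obj.obj (op W), ∀ x (hx : x ∈ W), PBC.gm G x hx s = val f x hx := by
    intro W f
    choose V hV hxV g hg using fun x : Pt W => hloc W f x.1 x.2
    obtain ⟨s, hs, -⟩ := TopCat.Sheaf.existsUnique_gluing' (F := (G : TopCat.Sheaf AddCommGrpCat.{u} X))
      V W (fun x => homOfLE (hV x)) (fun x hx => Opens.mem_iSup.2 ⟨⟨x, hx⟩, hxV ⟨x, hx⟩⟩) g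
      (fun i j => TopCat.Presheaf.section_ext (G : TopCat.Sheaf AddCommGrpCat.{u} X) _ _ _ fun y hy =>
        (TopCat.Presheaf.germ_res_apply G.obj _ y hy (g i)).trans
          (((hg i y hy.1).trans (hg j y hy.2).symm).trans (TopCat.Presheaf.germ_res_apply G.obj _ y hy (g j)).symm))
    have key : ∀ x (hx : x ∈ W), PBC.gm G x hx s = val f x hx := fun x hx => by
      have h1 := hs ⟨x, hx⟩
      rw [← hg ⟨x, hx⟩ x (hxV ⟨x, hx⟩), ← h1]
      exact (TopCat.Presheaf.germ_res_apply G.obj _ x (hxV ⟨x, hx⟩) s).symm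
    exact ⟨s, key, fun s' hs' => TopCat.Presheaf.section_ext (G : TopCat.Sheaf AddCommGrpCat.{u} X) W _ _
      fun x hx => (hs' x hx).trans (key x hx).symm⟩
  choose S hS hSu using hex
  have hval0 : ∀ (W : Opens X) x hx, val (0 : (pre (ind U 1)).obj (op W)) x hx = 0 := fun W x hx => by
    show dite (x ∈ U) _ _ = _
    split_ifs
    · exact zero_smul ℤ _
    · rfl
  have hadd : ∀ (W : Opens X) (a b : (L (ind U 1)).obj.obj (op W)), S W (a + b) = S W a + S W b :=
    fun W a b => (hSu W (a + b) (S W a + S W b) fun x hx => by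
      refine (map_add _ _ _).trans ?_
      refine (congrArg₂ (· + ·) (hS W a x hx) (hS W b x hx)).trans ?_
      show dite (x ∈ U) _ _ + dite (x ∈ U) _ _ = dite (x ∈ U) _ _
      split_ifs
      · exact (add_smul _ _ _).symm
      · exact add_zero _).symm
  let app : ∀ W : (Opens X)ᵒᵖ, (L (ind U 1)).obj.obj W ⟶ G.obj.obj W := fun W =>
    AddCommGrpCat.ofHom (AddMonoidHom.mk' (S W.unop) (hadd W.unop))
  refine ⟨⟨{ app := app, naturality := fun W V k => ?_ }⟩, ?_⟩
  · ext f
    refine (hSu V.unop _ _ fun x hx => ?_).symm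
    exact (TopCat.Presheaf.germ_res_apply G.obj k.unop x hx _).trans (hS _ _ _ _)
  · refine (hSu U (oneSec U) t fun x hx => ?_).symm
    show _ = dite (x ∈ U) _ _
    rw [dif_pos hx]
    exact (one_zsmul _).symm

/-- The extension by zero is the free sheaf. -/
theorem nonempty_zsh_iso_ind (U : Opens X) : Nonempty (Zsh U ≅ L (ind U 1)) := by
  obtain ⟨α, hα⟩ := exists_ind_hom (sect U (Zsh U) (𝟙 _))
  refine ⟨⟨(sect U _).symm (oneSec U), α, ?_, ?_⟩⟩
  · apply (sect U _).injective
    rw [sect_comp, AddEquiv.apply_symm_apply, hα]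
  · refine ind_hom_ext ?_
    show ((sect U (L (ind U 1))).symm (oneSec U)).hom.app (op U) (α.hom.app (op U) (oneSec U)) = _
    rw [hα, ← sect_comp, Category.id_comp, AddEquiv.apply_symm_apply]
    rfl

end Ind

end Groth.Agent.H15Site.ExtZeroVanish
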