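import Groth.Agent.H15Site.ExtZeroVanish.IntSubsheaf
import Mathlib.Algebra.GCDMonoid.Finset
import Mathlib.Algebra.GCDMonoid.Basic
import Mathlib.CategoryTheory.Subobject.Lattice
import Mathlib.CategoryTheory.Subobject.Limits
import Mathlib.GroupTheory.ArchimedeanDensely
import Mathlib.RingTheory.PrincipalIdealDomain

/-!
# Vanishing of cohomology from the extensions by zero of the constant sheaf
-/

set_option autoImplicit false
set_option linter.style.haveILetI false
set_option linter.unusedSectionVars false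
set_option backward.isDefEq.respectTransparency false
set_option backward.isDefEq.respectTransparency.types false

universe u

open CategoryTheory CategoryTheory.Limits Opposite TopologicalSpace Abelian

namespace Groth.Agent.H15Site.ExtZeroVanish

open Groth.Agent.H10Coh

attribute [local instance 10000] hasSheafifyAb hasWeakSheafifyAb hasExtAb enoughInjAb

variable {X : TopCat.{u}}

/-- No cohomology above `d`. -/
def Good (d : ℕ) (F : CohTop.Ab X) : Prop := ∀ p : ℕ, d < p → Subsingleton (Hn F p ⊤)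

theorem good_of_iso {d : ℕ} {F G : CohTop.Ab X} (e : F ≅ G) (h : Good d F) : Good d G := fun p hp =>
  subsingleton_of_forall_eq 0 fun x => by
    have h1 : x.comp (Ext.mk₀ e.inv) (add_zero p) = 0 := (h p hp).elim _ _
    have h2 := congrArg (fun y => Ext.comp y (Ext.mk₀ e.hom) (add_zero p)) h1
    simpa using h2

theorem good_of_isZero {d : ℕ} {F : CohTop.Ab X} (h : IsZero F) : Good d F := fun p _ =>
  subsingleton_of_forall_eq 0 fun x => by
    rw [← Ext.comp_mk₀_id x, (IsZero.iff_id_eq_zero F).1 h, Ext.mk₀_zero, Ext.comp_zero]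

theorem good_X₂ {d : ℕ} {S : ShortComplex (CohTop.Ab X)} (hS : S.ShortExact) (h₁ : Good d S.X₁)
    (h₃ : Good d S.X₃) : Good d S.X₂ := fun p hp => subsingleton_of_forall_eq 0 fun x => by
  obtain ⟨y, rfl⟩ := Ext.covariant_sequence_exact₂ _ hS x ((h₃ p hp).elim _ _)
  rw [(h₁ p hp).elim y 0, Ext.zero_comp]

theorem good_X₃ {d : ℕ} {S : ShortComplex (CohTop.Ab X)} (hS : S.ShortExact) (h₁ : Good d S.X₁)
    (h₂ : Good d S.X₂) : Good d S.X₃ := fun p hp => subsingleton_of_forall_eq 0 fun x => by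
  obtain ⟨y, rfl⟩ := Ext.covariant_sequence_exact₃ _ hS x (rfl : p + 1 = p + 1)
    ((h₁ (p + 1) (by omega)).elim _ _)
  rw [(h₂ p hp).elim y 0, Ext.zero_comp]

theorem good_biprod {d : ℕ} {F G : CohTop.Ab X} (hF : Good d F) (hG : Good d G) : Good d (F ⊞ G) :=
  good_X₂ (S := ShortComplex.mk (biprod.inl : F ⟶ F ⊞ G) biprod.snd biprod.inl_snd)
    (ShortComplex.Splitting.ofHasBinaryBiproduct F G).shortExact hF hG

theorem good_of_epi {d : ℕ} {F G : CohTop.Ab X} (φ : F ⟶ G) [Epi φ] (hF : Good d F)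
    (hK : Good d (kernel φ)) : Good d G :=
  good_X₃ (S := ShortComplex.mk (kernel.ι φ) φ (kernel.condition φ))
    { exact := ShortComplex.exact_kernel φ } hK hF

section Union

variable {ι : Type u} [SmallCategory ι] [IsFiltered ι] {D : ι ⥤ CohTop.Ab X} {c : Cocone D}

/-- A filtered cocone of monomorphisms through which all sections factor locally is a colimit. -/
theorem nonempty_isColimit_of_mono (hm : ∀ i, Mono (c.ι.app i))
    (hs : ∀ (W : Opens X) (t : c.pt.obj.obj (op W)) (x : X), x ∈ W → ∃ (V : Opens X) (hV : V ≤ W) (i : ι)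
      (s : (D.obj i).obj.obj (op V)), (c.ι.app i).hom.app (op V) s = c.pt.obj.map (homOfLE hV).op t ∧ x ∈ V) :
    Nonempty (IsColimit c) := by
  let φ : colimit D ⟶ c.pt := colimit.desc D c
  have hιφ : ∀ i (V : Opens X) (s : (D.obj i).obj.obj (op V)),
      φ.hom.app (op V) ((colimit.ι D i).hom.app (op V) s) = (c.ι.app i).hom.app (op V) s := fun i V s =>
    congr($(congrArg (fun k : D.obj i ⟶ c.pt => k.hom.app (op V)) (colimit.ι_desc c i)) s)
  haveI : Epi φ := epi_of_local φ fun W t x hx => by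
    obtain ⟨V, hV, i, s, hst, hxV⟩ := hs W t x hx
    exact ⟨V, hV, (colimit.ι D i).hom.app (op V) s, (hιφ i V s).trans hst, hxV⟩
  haveI : Mono φ := mono_of_app φ fun W => by
    refine (injective_iff_map_eq_zero (φ.hom.app (op W)).hom).2 fun a ha => ?_
    refine TopCat.Presheaf.section_ext (colimit D : TopCat.Sheaf AddCommGrpCat.{u} X) W _ _ fun x hx => ?_
    obtain ⟨V, hV, hxV, i, s, hs'⟩ := QcColim.exists_local_rep (colimit.isColimit D) (U := W) a hx
    replace hs' : (colimit.ι D i).hom.app (op V) s = (colimit D).obj.map (homOfLE hV).op a := hs'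
    have h0 : (c.ι.app i).hom.app (op V) s = 0 := by
      rw [← hιφ, hs']
      refine (ConcreteCategory.congr_hom (φ.hom.naturality (homOfLE hV).op) a).trans ?_
      exact (congrArg _ ha).trans (map_zero (c.pt.obj.map (homOfLE hV).op).hom)
    haveI := hm i
    have h1 : s = 0 := app_injective (c.ι.app i) V (h0.trans (map_zero _).symm)
    rw [h1, map_zero] at hs'
    rw [← TopCat.Presheaf.germ_res_apply _ (homOfLE hV) x hxV,
      ← TopCat.Presheaf.germ_res_apply _ (homOfLE hV) x hxV (0 : (colimit D).obj.obj (op W)), ← hs']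
    simp
  haveI : IsIso φ := isIso_of_mono_of_epi φ
  haveI : IsIso ((colimit.isColimit D).desc c) := inferInstanceAs (IsIso φ)
  exact ⟨IsColimit.ofPointIso (colimit.isColimit D)⟩

theorem good_colimit [CompactSpace X] [PrespectralSpace X] [QuasiSeparatedSpace X] {d : ℕ}
    (hc : IsColimit c) (h : ∀ i, Good d (D.obj i)) : Good d c.pt := fun p hp =>
  subsingleton_of_forall_eq 0 fun x => by
    obtain ⟨i, y, rfl⟩ := (QcColim.commutes p D c hc ⊤
      (by rw [Opens.coe_top]; exact isCompact_univ)).1 x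
    rw [(h i p hp).elim y 0]
    simp [QcColim.push]

end Union

section Lattice

/-- The divisibility of the sum of finitely many extensions by zero. -/
noncomputable def gN (T : Finset (Opens X × ℤ)) : X → ℤ := fun x => T.gcd fun p => ind p.1 p.2 x

theorem gN_dvd {T : Finset (Opens X × ℤ)} {p : Opens X × ℤ} (hp : p ∈ T) (x : X) :
    gN T x ∣ ind p.1 p.2 x := Finset.gcd_dvd hp

theorem gN_local (T : Finset (Opens X × ℤ)) (x : X) :
    ∃ V : Opens X, x ∈ V ∧ ∀ y ∈ V, gN T y ∣ gN T x := by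
  classical
  let O : Set X := ⋂ p ∈ T.filter (fun p => x ∈ p.1), (p.1 : Set X)
  have hO : IsOpen O := isOpen_biInter_finset fun p _ => p.1.isOpen
  have hxO : x ∈ O := Set.mem_iInter₂.2 fun p hp => (Finset.mem_filter.1 hp).2
  refine ⟨⟨O, hO⟩, hxO, fun y hy => ?_⟩
  have hy' : ∀ p ∈ T, x ∈ p.1 → y ∈ p.1 := fun p hp h =>
    Set.mem_iInter₂.1 (show y ∈ O from hy) p (Finset.mem_filter.2 ⟨hp, h⟩)
  have key : ∀ p ∈ T, gN T y ∣ ind p.1 p.2 x := fun p hp => by
    by_cases h : x ∈ p.1
    · rw [ind_pos h, ← ind_pos (n := p.2) (hy' p hp h)]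
      exact gN_dvd hp y
    · rw [ind_neg h]
      exact dvd_zero _
  exact (Finset.dvd_gcd_iff (s := T) (f := fun p => ind p.1 p.2 x) (a := gN T y)).2 key

theorem dvd_of_forall_lcm {κ : Type*} (T : Finset κ) (f : κ → ℤ) (n h : ℤ)
    (hh : ∀ i ∈ T, h ∣ lcm (f i) n) : h ∣ lcm (T.gcd f) n := by
  rcases eq_or_ne (gcd (T.gcd f) n) 0 with h0 | h0
  · obtain ⟨-, rfl⟩ := (gcd_eq_zero_iff _ _).1 h0
    rw [lcm_zero_right]
    exact dvd_zero _
  have h1 : h * gcd (T.gcd f) n ∣ T.gcd f * n := by
    refine (Finset.dvd_gcd fun i hi => ?_ : h * gcd (T.gcd f) n ∣ T.gcd fun i => f i * n).trans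
      ((Finset.gcd_mul_right (f := f) (a := n) (s := T)).dvd.trans
        (mul_dvd_mul_left _ (normalize_dvd_iff.2 dvd_rfl)))
    refine (mul_dvd_mul (hh i hi) (gcd_dvd_gcd (Finset.gcd_dvd hi) dvd_rfl)).trans ?_
    rw [mul_comm]
    exact (gcd_mul_lcm (f i) n).dvd
  have h2 : T.gcd f * n ∣ lcm (T.gcd f) n * gcd (T.gcd f) n := by
    rw [mul_comm (lcm _ _)]
    exact (gcd_mul_lcm (T.gcd f) n).symm.dvd
  exact (mul_dvd_mul_iff_right h0).1 (h1.trans h2)

/-- Mutually divisible data give isomorphic sheaves. -/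
theorem nonempty_iso_L {N M : X → ℤ} (h : ∀ x, N x ∣ M x) (h' : ∀ x, M x ∣ N x) : Nonempty (L N ≅ L M) := by
  refine ⟨⟨inc h', inc h, ?_, ?_⟩⟩
  · refine CategoryTheory.Sheaf.hom_ext (NatTrans.ext (funext fun W => ?_))
    ext f
    exact vl_ext fun x hx => (vl_inc h _ x hx).trans (vl_inc h' f x hx)
  · refine CategoryTheory.Sheaf.hom_ext (NatTrans.ext (funext fun W => ?_))
    ext f
    exact vl_ext fun x hx => (vl_inc h' _ x hx).trans (vl_inc h f x hx)

theorem good_L_congr {d : ℕ} {N M : X → ℤ} (h : ∀ x, N x ∣ M x) (h' : ∀ x, M x ∣ N x) (hN : Good d (L N)) :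
    Good d (L M) := by
  obtain ⟨e⟩ := nonempty_iso_L h h'
  exact good_of_iso e hN

/-- The difference map out of the sum. -/
noncomputable abbrev dif (N M : X → ℤ) : L N ⊞ L M ⟶ L fun x => gcd (N x) (M x) :=
  biprod.desc (inc fun x => gcd_dvd_left (N x) (M x)) (-inc fun x => gcd_dvd_right (N x) (M x))

theorem vl_neg {N : X → ℤ} {W : Opens X} (f : (pre N).obj (op W)) (x : X) (hx : x ∈ W) :
    vl (-f) x hx = -vl f x hx := rfl

theorem sub_app {F G : CohTop.Ab X} (φ ψ : F ⟶ G) {W : Opens X} (s : F.obj.obj (op W)) :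
    (φ - ψ).hom.app (op W) s = φ.hom.app (op W) s - ψ.hom.app (op W) s :=
  eq_sub_of_add_eq (congr($(congrArg (fun k : F ⟶ G => k.hom.app (op W)) (sub_add_cancel φ ψ)) s))

theorem vl_sub {N : X → ℤ} {W : Opens X} (f g : (pre N).obj (op W)) (x : X) (hx : x ∈ W) :
    vl (f - g) x hx = vl f x hx - vl g x hx := rfl

theorem vl_dif {N M : X → ℤ} {W : Opens X} (s : (L N ⊞ L M).obj.obj (op W)) (x : X) (hx : x ∈ W) :
    vl ((dif N M).hom.app (op W) s) x hx =
      vl ((biprod.fst : L N ⊞ L M ⟶ _).hom.app (op W) s) x hx -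
        vl ((biprod.snd : L N ⊞ L M ⟶ _).hom.app (op W) s) x hx := by
  have h : dif N M = biprod.fst ≫ inc (fun x => gcd_dvd_left (N x) (M x)) -
      biprod.snd ≫ inc (fun x => gcd_dvd_right (N x) (M x)) := by
    rw [dif, biprod.desc_eq, Preadditive.comp_neg, sub_eq_add_neg]
  refine (congrArg (fun φ : L N ⊞ L M ⟶ L fun x => gcd (N x) (M x) => vl (φ.hom.app (op W) s) x hx) h).trans ?_
  refine (congrArg (fun t => vl t x hx) (sub_app _ _ s)).trans ?_
  refine (vl_sub _ _ x hx).trans ?_
  exact congrArg₂ _ (vl_inc (fun x => gcd_dvd_left (N x) (M x)) _ x hx)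
    (vl_inc (fun x => gcd_dvd_right (N x) (M x)) _ x hx)

theorem epi_dif (N M : X → ℤ) (hN : ∀ x, ∃ V : Opens X, x ∈ V ∧ ∀ y ∈ V, N y ∣ N x)
    (hM : ∀ x, ∃ V : Opens X, x ∈ V ∧ ∀ y ∈ V, M y ∣ M x) : Epi (dif N M) := by
  refine epi_of_local _ fun W t x hx => ?_
  obtain ⟨V₀, hV₀, hxV₀, e⟩ := exists_nhd_const t x hx
  obtain ⟨VN, hxN, eN⟩ := hN x
  obtain ⟨VM, hxM, eM⟩ := hM x
  obtain ⟨a, b, hab⟩ := (gcd_dvd_iff_exists (N x) (M x)).1 (dvd_vl t x hx)
  let O := V₀ ⊓ VN ⊓ VM
  let sa : (L N).obj.obj (op O) := mkSec (fun _ _ => N x * a) (IsLocallyConstant.const _)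
    fun y hy => (eN y hy.1.2).mul_right a
  let sb : (L M).obj.obj (op O) := mkSec (fun _ _ => M x * b) (IsLocallyConstant.const _)
    fun y hy => (eM y hy.2).mul_right b
  let s₁ := (biprod.inl : L N ⟶ L N ⊞ L M).hom.app (op O) sa
  let s₂ := (biprod.inr : L M ⟶ L N ⊞ L M).hom.app (op O) sb
  have hO : O ≤ W := (inf_le_left.trans inf_le_left).trans hV₀
  have h₁ : ∀ y (hy : y ∈ O), vl ((dif N M).hom.app (op O) s₁) y hy = N x * a := fun y hy =>
    (congrArg (fun t => vl t y hy) (congr($(congrArg (fun k : L N ⟶ _ => k.hom.app (op O))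
      (biprod.inl_desc (inc fun x => gcd_dvd_left (N x) (M x)) (-inc fun x => gcd_dvd_right (N x) (M x)))) sa))).trans
      (vl_inc (fun x => gcd_dvd_left (N x) (M x)) sa y hy)
  have h₂ : ∀ y (hy : y ∈ O), vl ((dif N M).hom.app (op O) s₂) y hy = -(M x * b) := fun y hy => by
    refine (congrArg (fun t => vl t y hy) (congr($(congrArg (fun k : L M ⟶ _ => k.hom.app (op O))
      (biprod.inr_desc (inc fun x => gcd_dvd_left (N x) (M x)) (-inc fun x => gcd_dvd_right (N x) (M x)))) sb))).trans ?_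
    refine (congrArg (fun t => vl t y hy) ?_).trans
      ((vl_neg _ y hy).trans (congrArg Neg.neg (vl_inc (fun x => gcd_dvd_right (N x) (M x)) sb y hy)))
    exact eq_neg_of_add_eq_zero_left (congr($(congrArg (fun k : L M ⟶ _ => k.hom.app (op O))
      (neg_add_cancel (inc fun x => gcd_dvd_right (N x) (M x)))) sb))
  refine ⟨O, hO, s₁ - s₂, vl_ext fun y hy => ?_, ⟨⟨hxV₀, hxN⟩, hxM⟩⟩
  refine Eq.trans ?_ (e y hy.1.1).symm
  refine (congrArg (fun t => vl t y hy) (map_sub _ s₁ s₂)).trans ((vl_sub _ _ y hy).trans ?_)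
  exact (congrArg₂ (· - ·) (h₁ y hy) (h₂ y hy)).trans ((sub_neg_eq_add _ _).trans hab.symm)

theorem good_gcd {d : ℕ} (N M : X → ℤ) (hN : ∀ x, ∃ V : Opens X, x ∈ V ∧ ∀ y ∈ V, N y ∣ N x)
    (hM : ∀ x, ∃ V : Opens X, x ∈ V ∧ ∀ y ∈ V, M y ∣ M x) (h₁ : Good d (L N)) (h₂ : Good d (L M))
    (h₃ : Good d (L fun x => lcm (N x) (M x))) : Good d (L fun x => gcd (N x) (M x)) := by
  let l : L (fun x => lcm (N x) (M x)) ⟶ L N ⊞ L M :=
    biprod.lift (inc fun x => dvd_lcm_left (N x) (M x)) (inc fun x => dvd_lcm_right (N x) (M x))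
  have hl₁ : l ≫ biprod.fst = inc fun x => dvd_lcm_left (N x) (M x) := biprod.lift_fst _ _
  have hl₂ : l ≫ biprod.snd = inc fun x => dvd_lcm_right (N x) (M x) := biprod.lift_snd _ _
  haveI : Mono (l ≫ biprod.fst) := by rw [hl₁]; infer_instance
  haveI : Mono l := mono_of_mono l biprod.fst
  haveI := epi_dif N M hN hM
  have hw : l ≫ dif N M = 0 := by
    rw [dif, biprod.desc_eq, Preadditive.comp_add, ← Category.assoc, ← Category.assoc, hl₁, hl₂,
      Preadditive.comp_neg, ← sub_eq_add_neg, sub_eq_zero]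
    refine CategoryTheory.Sheaf.hom_ext (NatTrans.ext (funext fun W => ?_))
    ext f
    exact vl_ext fun x hx => ((vl_inc (fun x => gcd_dvd_left (N x) (M x)) _ x hx).trans
      (vl_inc (fun x => dvd_lcm_left (N x) (M x)) f x hx)).trans
      ((vl_inc (fun x => gcd_dvd_right (N x) (M x)) _ x hx).trans
        (vl_inc (fun x => dvd_lcm_right (N x) (M x)) f x hx)).symm
  have hlim : IsLimit (KernelFork.ofι l hw) := by
    refine KernelFork.IsLimit.ofι' l hw fun {T} k hk => ?_
    have heq : ∀ (W : Opens X) (t : T.obj.obj (op W)) (x : X) (hx : x ∈ W),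
        vl ((k ≫ biprod.fst).hom.app (op W) t) x hx = vl ((k ≫ biprod.snd).hom.app (op W) t) x hx :=
      fun W t x hx => sub_eq_zero.1 ((vl_dif (k.hom.app (op W) t) x hx).symm.trans
        (congrArg (fun t => vl t x hx) (congr($(congrArg (fun φ : T ⟶ L (fun x => gcd (N x) (M x)) => φ.hom.app (op W)) hk) t))))
    let mk : ∀ (W : Opens X), T.obj.obj (op W) → (pre fun x => lcm (N x) (M x)).obj (op W) := fun W t =>
      mkSec (fun x hx => vl ((k ≫ biprod.fst).hom.app (op W) t) x hx) (isLocallyConstant_vl _)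
        fun x hx => lcm_dvd (dvd_vl _ x hx) ((heq W t x hx).symm ▸ dvd_vl _ x hx)
    have hadd : ∀ (W : Opens X) (a b : T.obj.obj (op W)), mk W (a + b) = mk W a + mk W b := fun W a b =>
      vl_ext fun x hx => (congrArg (fun t => vl t x hx) (map_add _ a b)).trans (vl_add _ _ x hx)
    let app : ∀ W : (Opens X)ᵒᵖ, T.obj.obj W ⟶ (L fun x => lcm (N x) (M x)).obj.obj W := fun W =>
      AddCommGrpCat.ofHom (AddMonoidHom.mk' (mk W.unop) (hadd W.unop))
    refine ⟨⟨{ app := app, naturality := fun W V i => ?_ }⟩, ?_⟩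
    · ext t
      refine vl_ext fun x hx => ?_
      have h' := congrArg (fun t : (pre N).obj (op V.unop) => vl t x hx)
        (ConcreteCategory.congr_hom ((k ≫ biprod.fst).hom.naturality i) t)
      exact h'
    · refine biprod.hom_ext _ _ ?_ ?_ <;> refine (Category.assoc _ _ _).trans ?_
      · rw [hl₁]
        refine CategoryTheory.Sheaf.hom_ext (NatTrans.ext (funext fun W => ?_))
        ext t
        exact vl_ext fun x hx => vl_inc (fun x => dvd_lcm_left (N x) (M x)) (mk _ t) x hx
      · rw [hl₂]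
        refine CategoryTheory.Sheaf.hom_ext (NatTrans.ext (funext fun W => ?_))
        ext t
        exact vl_ext fun x hx => (vl_inc (fun x => dvd_lcm_right (N x) (M x)) (mk _ t) x hx).trans (heq _ t x hx)
  exact good_X₃ (S := ShortComplex.mk l (dif N M) hw) { exact := ShortComplex.exact_of_f_is_kernel _ hlim } h₃
    (good_biprod h₁ h₂)

theorem good_ind {d : ℕ} (h : ∀ U : Opens X, IsCompact (U : Set X) → Good d (Zsh U)) {U : Opens X}
    (hU : IsCompact (U : Set X)) (n : ℤ) : Good d (L (ind U n)) := by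
  by_cases hn : n = 0
  · subst hn
    refine good_of_isZero ((IsZero.iff_id_eq_zero _).2 (CategoryTheory.Sheaf.hom_ext (NatTrans.ext (funext fun W => ?_))))
    ext f
    exact vl_ext fun x hx => (zero_dvd_iff.1 (show (0 : ℤ) ∣ vl f x hx from by
      have := dvd_vl f x hx
      by_cases hxU : x ∈ U
      · rwa [ind_pos hxU] at this
      · rwa [ind_neg hxU] at this)).trans (vl_zero x hx).symm
  obtain ⟨e⟩ := nonempty_zsh_iso_ind U
  let m : L (ind U 1) ⟶ L (ind U n) := homOfMul _ _ n fun x => by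
    by_cases hx : x ∈ U
    · rw [ind_pos hx, ind_pos hx, mul_one]
    · rw [ind_neg hx, ind_neg hx, mul_zero]
  haveI : Mono m := mono_homOfMul hn _
  haveI : Epi m := epi_of_local m fun W t x hx => by
    have hdvd : ∀ y hy, n ∣ vl t y hy := fun y hy => by
      by_cases hyU : y ∈ U
      · have := dvd_vl t y hy
        rwa [ind_pos hyU] at this
      · rw [vl_eq_zero_of_ind t hy hyU]; exact dvd_zero n
    refine ⟨W, le_rfl, mkSec (fun y hy => vl t y hy / n)
      ((isLocallyConstant_vl t).comp (· / n)) (fun y hy => ?_), vl_ext fun y hy => ?_, hx⟩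
    · by_cases hyU : y ∈ U
      · rw [ind_pos hyU]; exact one_dvd _
      · rw [ind_neg hyU, vl_eq_zero_of_ind t hy hyU, Int.zero_ediv]
    · exact Int.mul_ediv_cancel' (hdvd y hy)
  haveI : IsIso m := isIso_of_mono_of_epi m
  exact good_of_iso (e ≪≫ asIso m) (h U hU)

theorem good_gN [QuasiSeparatedSpace X] {d : ℕ}
    (h : ∀ U : Opens X, IsCompact (U : Set X) → Good d (Zsh U)) :
    ∀ T : Finset (Opens X × ℤ), (∀ p ∈ T, IsCompact (p.1 : Set X)) → Good d (L (gN T)) := by
  classical
  have h0 : Good d (L (gN (X := X) ∅)) := by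
    refine good_L_congr (N := ind ⊥ 0) (fun x => ?_) (fun x => ?_) (good_ind h (by simp) 0) <;>
      simp [gN, ind]
  suffices H : ∀ k, ∀ T : Finset (Opens X × ℤ), T.card ≤ k → (∀ p ∈ T, IsCompact (p.1 : Set X)) →
      Good d (L (gN T)) from fun T => H _ T le_rfl
  intro k
  induction k with
  | zero =>
    intro T hT _
    rw [Finset.card_eq_zero.1 (Nat.le_zero.1 hT)]
    exact h0
  | succ k ih =>
    intro T hT hc
    obtain rfl | ⟨⟨V, n⟩, hp⟩ := T.eq_empty_or_nonempty
    · exact h0
    let T₀ := T.erase (V, n)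
    have hT₀ : T₀.card ≤ k := by
      have := Finset.card_erase_of_mem hp
      show (T.erase (V, n)).card ≤ k
      omega
    let T₁ := T₀.image fun p : Opens X × ℤ => (p.1 ⊓ V, lcm p.2 n)
    have hg₁ := ih T₀ hT₀ fun p hp => hc p (Finset.mem_of_mem_erase hp)
    have hg₃ := ih T₁ (Finset.card_image_le.trans hT₀) fun q hq => by
      obtain ⟨p, hp', rfl⟩ := Finset.mem_image.1 hq
      exact (hc p (Finset.mem_of_mem_erase hp')).inter_of_isOpen (hc _ hp) p.1.isOpen V.isOpen
    have hl : Good d (L fun x => lcm (gN T₀ x) (ind V n x)) := by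
      refine good_L_congr (fun x => ?_) (fun x => ?_) hg₃
      · by_cases hxV : x ∈ V
        · rw [ind_pos hxV]
          refine dvd_of_forall_lcm T₀ _ n _ fun p hp' => ?_
          have := gN_dvd (T := T₁) (Finset.mem_image_of_mem _ hp') x
          by_cases hxp : x ∈ p.1
          · rw [ind_pos (show x ∈ p.1 ⊓ V from ⟨hxp, hxV⟩)] at this
            rwa [ind_pos hxp]
          · rw [ind_neg hxp, lcm_zero_left]
            exact dvd_zero _
        · rw [ind_neg hxV, lcm_zero_right]
          exact dvd_zero _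
      · refine Finset.dvd_gcd fun q hq => ?_
        obtain ⟨p, hp', rfl⟩ := Finset.mem_image.1 hq
        by_cases hx : x ∈ p.1 ⊓ V
        · rw [ind_pos hx, ind_pos hx.2]
          exact lcm_dvd_lcm (ind_pos (n := p.2) hx.1 ▸ gN_dvd hp' x) dvd_rfl
        · rw [ind_neg hx]
          exact dvd_zero _
    have hi : ∀ x, ∃ W : Opens X, x ∈ W ∧ ∀ y ∈ W, ind V n y ∣ ind V n x := fun x => by
      by_cases hx : x ∈ V
      · exact ⟨V, hx, fun y hy => by rw [ind_pos hx, ind_pos hy]⟩
      · exact ⟨⊤, trivial, fun y _ => by rw [ind_neg hx]; exact dvd_zero _⟩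
    have key := good_gcd (gN T₀) (ind V n) (gN_local T₀) hi hg₁ (good_ind h (hc _ hp) n) hl
    refine good_L_congr (fun x => Finset.dvd_gcd fun p hp' => ?_) (fun x => ?_) key
    · by_cases e : p = (V, n)
      · subst e; exact gcd_dvd_right _ _
      · exact (gcd_dvd_left _ _).trans (gN_dvd (Finset.mem_erase.2 ⟨e, hp'⟩) x)
    · exact dvd_gcd (Finset.gcd_mono (Finset.erase_subset _ _)) (gN_dvd hp x)

theorem good_L [CompactSpace X] [PrespectralSpace X] [QuasiSeparatedSpace X] {d : ℕ}
    (h : ∀ U : Opens X, IsCompact (U : Set X) → Good d (Zsh U)) (N : X → ℤ) : Good d (L N) := by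
  classical
  let I := Finset {p : Opens X × ℤ // IsCompact (p.1 : Set X) ∧ ∀ x ∈ p.1, N x ∣ p.2}
  have hmono : ∀ {A B : I}, A ≤ B → ∀ x, gN (B.image Subtype.val) x ∣ gN (A.image Subtype.val) x :=
    fun hAB x => Finset.gcd_mono (Finset.image_subset_image hAB)
  let D : I ⥤ CohTop.Ab X :=
    { obj := fun A => L (gN (A.image Subtype.val))
      map := fun {A B} f => inc (hmono (leOfHom f))
      map_id := fun A => by
        refine CategoryTheory.Sheaf.hom_ext (NatTrans.ext (funext fun W => ?_))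
        ext f
        exact vl_ext fun x hx => vl_inc _ _ x hx
      map_comp := fun {A B C} f g => by
        refine CategoryTheory.Sheaf.hom_ext (NatTrans.ext (funext fun W => ?_))
        ext s
        exact vl_ext fun x hx => (vl_inc (hmono (leOfHom (f ≫ g))) s x hx).trans
          ((vl_inc (hmono (leOfHom g)) _ x hx).trans (vl_inc (hmono (leOfHom f)) s x hx)).symm }
  have hN : ∀ (A : I) x, N x ∣ gN (A.image Subtype.val) x := fun A x => Finset.dvd_gcd fun p hp => by
    obtain ⟨q, -, rfl⟩ := Finset.mem_image.1 hp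
    by_cases hx : x ∈ q.1.1
    · rw [ind_pos hx]; exact q.2.2 x hx
    · rw [ind_neg hx]; exact dvd_zero _
  let c : Cocone D := Cocone.mk (L N)
    { app := fun A => inc (hN A)
      naturality := fun A B f => by
        refine CategoryTheory.Sheaf.hom_ext (NatTrans.ext (funext fun W => ?_))
        ext s
        exact vl_ext fun x hx => ((vl_inc (hN B) _ x hx).trans (vl_inc (hmono (leOfHom f)) s x hx)).trans
          (vl_inc (hN A) s x hx).symm }
  obtain ⟨hc⟩ := nonempty_isColimit_of_mono (c := c) (fun A => (inferInstance : Mono (inc (hN A))))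
    fun W t x hx => by
      obtain ⟨V, hV, hxV, e⟩ := exists_nhd_const t x hx
      obtain ⟨K, hKV, hxK, hK⟩ : ∃ K : Opens X, K ≤ V ∧ x ∈ K ∧ IsCompact (K : Set X) := by
        obtain ⟨S, ⟨hSo, hSc⟩, hxS, hSV⟩ :=
          (PrespectralSpace.isTopologicalBasis (X := X)).exists_subset_of_mem_open hxV V.isOpen
        exact ⟨⟨S, hSo⟩, hSV, hxS, hSc⟩
      let q : {p : Opens X × ℤ // IsCompact (p.1 : Set X) ∧ ∀ x ∈ p.1, N x ∣ p.2} :=
        ⟨(K, vl t x hx), hK, fun y hy => e y (hKV hy) ▸ dvd_vl t y _⟩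
      refine ⟨K, hKV.trans hV, {q}, mkSec (fun _ _ => vl t x hx) (IsLocallyConstant.const _) (fun y hy => ?_),
        vl_ext fun y hy => (vl_inc (hN {q}) _ y hy).trans (e y (hKV hy)).symm, hxK⟩
      exact (gN_dvd (T := ({q} : I).image Subtype.val) (p := q.1) (Finset.mem_image_of_mem Subtype.val (Finset.mem_singleton_self q)) y).trans (ind_pos (show y ∈ q.1.1 from hy)).dvd
  exact good_colimit hc fun A => good_gN h _ fun p hp => by
    obtain ⟨q, -, rfl⟩ := Finset.mem_image.1 hp
    exact q.2.1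

/-- Subsheaves of sheaves of integer functions are again of that form. -/
theorem exists_iso_L {Q : X → ℤ} {K : CohTop.Ab X} (m : K ⟶ L Q) [Mono m] : ∃ N, Nonempty (K ≅ L N) := by
  let H : X → AddSubgroup ℤ := fun x =>
    { carrier := {a | ∃ (W : Opens X) (hx : x ∈ W) (k : K.obj.obj (op W)), vl (m.hom.app (op W) k) x hx = a}
      zero_mem' := ⟨⊤, Opens.mem_top x, 0,
        (congrArg (fun t => vl t x (Opens.mem_top x)) (map_zero (m.hom.app (op ⊤)).hom)).trans (vl_zero x _)⟩
      add_mem' := by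
        rintro a b ⟨W, hW, k, rfl⟩ ⟨W', hW', k', rfl⟩
        refine ⟨W ⊓ W', ⟨hW, hW'⟩, K.obj.map (homOfLE inf_le_left).op k + K.obj.map (homOfLE inf_le_right).op k', ?_⟩
        refine (congrArg (fun t => vl t x _) (map_add _ _ _)).trans ((vl_add _ _ x _).trans ?_)
        exact congrArg₂ _
          (congrArg (fun t => vl t x (show x ∈ W ⊓ W' from ⟨hW, hW'⟩))
            (ConcreteCategory.congr_hom (m.hom.naturality (homOfLE (inf_le_left : W ⊓ W' ≤ W)).op) k))
          (congrArg (fun t => vl t x (show x ∈ W ⊓ W' from ⟨hW, hW'⟩))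
            (ConcreteCategory.congr_hom (m.hom.naturality (homOfLE (inf_le_right : W ⊓ W' ≤ W')).op) k'))
      neg_mem' := by
        rintro a ⟨W, hW, k, rfl⟩
        exact ⟨W, hW, -k, (congrArg (fun t => vl t x hW) (map_neg _ _)).trans (vl_neg _ x hW)⟩ }
  choose N hN using fun x => Int.subgroup_cyclic (H x)
  have hmem : ∀ x (a : ℤ), a ∈ H x ↔ N x ∣ a := fun x a => by
    rw [hN x, AddSubgroup.mem_closure_singleton]
    exact ⟨fun ⟨j, hj⟩ => ⟨j, by rw [← hj, smul_eq_mul, mul_comm]⟩, fun ⟨j, hj⟩ => ⟨j, by rw [hj, smul_eq_mul, mul_comm]⟩⟩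
  let mk : ∀ (W : Opens X), K.obj.obj (op W) → (pre N).obj (op W) := fun W k =>
    mkSec (fun x hx => vl (m.hom.app (op W) k) x hx) (isLocallyConstant_vl _)
      fun x hx => (hmem x _).1 ⟨W, hx, k, rfl⟩
  have hadd : ∀ (W : Opens X) (a b : K.obj.obj (op W)), mk W (a + b) = mk W a + mk W b := fun W a b =>
    vl_ext fun x hx => (congrArg (fun t => vl t x hx) (map_add _ a b)).trans (vl_add _ _ x hx)
  let app : ∀ W : (Opens X)ᵒᵖ, K.obj.obj W ⟶ (L N).obj.obj W := fun W =>
    AddCommGrpCat.ofHom (AddMonoidHom.mk' (mk W.unop) (hadd W.unop))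
  let α : K ⟶ L N := ⟨{ app := app
                        naturality := fun W V i => by
                          ext t
                          refine vl_ext fun x hx => ?_
                          have h' := congrArg (fun t : (pre Q).obj (op V.unop) => vl t x hx)
                            (ConcreteCategory.congr_hom (m.hom.naturality i) t)
                          exact h' }⟩
  haveI : Mono α := mono_of_app α fun W a b e => app_injective m W
    (vl_ext fun x hx => by
      have h' := congrArg (fun t : (pre N).obj (op W) => vl t x hx) e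
      exact h')
  haveI : Epi α := epi_of_local α fun W t x hx => by
    obtain ⟨V, hV, hxV, e⟩ := exists_nhd_const t x hx
    obtain ⟨W', hxW', k, hk⟩ := (hmem x _).2 (dvd_vl t x hx)
    obtain ⟨V', hV', hxV', e'⟩ := exists_nhd_const (m.hom.app (op W') k) x hxW'
    refine ⟨V ⊓ V', inf_le_left.trans hV, K.obj.map (homOfLE (inf_le_right.trans hV')).op k,
      vl_ext fun y hy => ?_, ⟨hxV, hxV'⟩⟩
    refine ((congrArg (fun t => vl t y hy)
      (ConcreteCategory.congr_hom (m.hom.naturality (homOfLE (inf_le_right.trans hV')).op) k)).trans ?_)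
    exact ((e' y hy.2).trans hk).trans (e y hy.1).symm
  haveI : IsIso α := isIso_of_mono_of_epi α
  exact ⟨N, ⟨asIso α⟩⟩

end Lattice

variable [CompactSpace X] [PrespectralSpace X] [QuasiSeparatedSpace X] {d : ℕ}
  (h : ∀ U : Opens X, IsCompact (U : Set X) → Good d (Zsh U))

include h in
theorem good_quotient {U : Opens X} (hU : IsCompact (U : Set X)) {G : CohTop.Ab X} (ψ : L (ind U 1) ⟶ G)
    [Epi ψ] : Good d G := by
  obtain ⟨N, ⟨e⟩⟩ := exists_iso_L (kernel.ι ψ)
  exact good_of_epi ψ (good_ind h hU 1) (good_of_iso e.symm (good_L h N))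

include h in
/-- All abelian sheaves have no cohomology above `d`. -/
theorem good_all (F : CohTop.Ab X) : Good d F := by
  classical
  let K := Σ V : {V : Opens X // IsCompact (V : Set X)}, F.obj.obj (op V.1)
  choose ψ hψ using fun k : K => exists_ind_hom k.2
  let A : Finset K → Subobject F := fun T => T.sup fun k => imageSubobject (ψ k)
  have hAmono : Monotone A := fun S T hST => Finset.sup_mono hST
  have hgood : ∀ T, Good d (A T : CohTop.Ab X) := by
    intro T
    induction T using Finset.induction with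
    | empty => exact good_of_isZero ((isZero_zero _).of_iso Subobject.botCoeIsoZero)
    | insert k T _ ih =>
      have e : A (insert k T) = imageSubobject (ψ k) ⊔ A T := Finset.sup_insert
      rw [e]
      let B := imageSubobject (ψ k)
      let iA := Subobject.ofLE (A T) (B ⊔ A T) le_sup_right
      let q := factorThruImageSubobject (ψ k) ≫ Subobject.ofLE B (B ⊔ A T) le_sup_left ≫ cokernel.π iA
      haveI : Epi q := by
        refine Preadditive.epi_of_cancel_zero _ fun {Z} g hg => ?_
        rw [← cancel_epi (cokernel.π iA), comp_zero]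
        let g' := cokernel.π iA ≫ g
        have hB : Subobject.ofLE B (B ⊔ A T) le_sup_left ≫ g' = 0 := by
          rw [← cancel_epi (factorThruImageSubobject (ψ k)), comp_zero, ← hg]
          simp only [q, g', Category.assoc]
        have hA : iA ≫ g' = 0 := by simp [g']
        let S := Subobject.mk (kernel.ι g' ≫ (B ⊔ A T).arrow)
        have hBS : B ≤ S := Subobject.le_mk_of_comm (kernel.lift g' _ hB) (by
          rw [kernel.lift_ι_assoc, Subobject.ofLE_arrow])
        have hAS : A T ≤ S := Subobject.le_mk_of_comm (kernel.lift g' _ hA) (by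
          rw [kernel.lift_ι_assoc, Subobject.ofLE_arrow])
        have hS : B ⊔ A T ≤ S := sup_le hBS hAS
        have hid : Subobject.ofLEMk _ (kernel.ι g' ≫ (B ⊔ A T).arrow) hS ≫ kernel.ι g' = 𝟙 _ := by
          rw [← cancel_mono (B ⊔ A T).arrow, Category.assoc, Subobject.ofLEMk_comp, Category.id_comp]
        show g' = 0
        rw [← Category.id_comp g', ← hid, Category.assoc, kernel.condition, comp_zero]
      have hSE : (ShortComplex.mk iA (cokernel.π iA) (cokernel.condition iA)).ShortExact :=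
        { exact := ShortComplex.exact_cokernel iA }
      exact good_X₂ hSE ih (good_quotient h k.1.2 q)
  let D : Finset K ⥤ CohTop.Ab X :=
    { obj := fun T => (A T : CohTop.Ab X)
      map := fun {S T} f => Subobject.ofLE _ _ (hAmono (leOfHom f)) }
  let c : Cocone D := Cocone.mk F
    { app := fun T => (A T).arrow
      naturality := fun S T f => (Subobject.ofLE_arrow _).trans (Category.comp_id _).symm }
  obtain ⟨hc⟩ := nonempty_isColimit_of_mono (c := c) (fun T => (inferInstance : Mono (A T).arrow))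
    fun W t x hx => by
      obtain ⟨S, ⟨hSo, hSc⟩, hxS, hSW⟩ :=
        (PrespectralSpace.isTopologicalBasis (X := X)).exists_subset_of_mem_open hx W.isOpen
      let k : K := ⟨⟨⟨S, hSo⟩, hSc⟩, F.obj.map (homOfLE (show (⟨S, hSo⟩ : Opens X) ≤ W from hSW)).op t⟩
      have hle : imageSubobject (ψ k) ≤ A {k} := le_of_eq Finset.sup_singleton.symm
      let j := factorThruImageSubobject (ψ k) ≫ Subobject.ofLE _ _ hle
      refine ⟨k.1.1, hSW, {k}, j.hom.app (op k.1.1) (oneSec k.1.1), ?_, hxS⟩
      have e : j ≫ (A {k}).arrow = ψ k := by simp [j]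
      exact (congr($(congrArg (fun m : L (ind k.1.1 1) ⟶ F => m.hom.app (op k.1.1)) e) (oneSec k.1.1))).trans (hψ k)
  exact good_colimit hc hgood

end Groth.Agent.H15Site.ExtZeroVanish
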